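import Mathlib

/-!
# Completion of short exact sequences with flat quotient
-/

set_option autoImplicit false
universe u

open TensorProduct

namespace GrothLib.ComplSplit

variable {R : Type u} [CommRing R] {K P M : Type u} [AddCommGroup K] [Module R K] [AddCommGroup P] [Module R P]
  [AddCommGroup M] [Module R M]

theorem mem_smul_ker_of_flat [Module.Flat R M] (J : Ideal R) (g : P →ₗ[R] M) (hg : Function.Surjective g)
    {x : P} (hx : x ∈ J • (⊤ : Submodule R P)) (h : g x = 0) : x ∈ J • LinearMap.ker g := by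
  let μ : ∀ (N : Type u) [AddCommGroup N] [Module R N], J ⊗[R] N →ₗ[R] N := fun N _ _ =>
    TensorProduct.lift ((LinearMap.lsmul R N).comp J.subtype)
  obtain ⟨z, rfl⟩ : x ∈ LinearMap.range (μ P) :=
    (Submodule.smul_le (N := (⊤ : Submodule R P))).2
      (fun a ha p _ => LinearMap.mem_range.2 ⟨(⟨a, ha⟩ : J) ⊗ₜ[R] p, by simp [μ]⟩) hx
  have hnat : ∀ z, μ M (g.lTensor J z) = g (μ P z) := fun z => by
    clear hx h
    induction z using TensorProduct.induction_on with
    | zero => simp
    | tmul a p => simp [μ]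
    | add a b ha hb => simp only [map_add, ha, hb]
  have hinj : Function.Injective (μ M) := by
    have h1 : Function.Injective (J.subtype.rTensor M) :=
      Module.Flat.rTensor_preserves_injective_linearMap _ (Submodule.injective_subtype J)
    have h2 : μ M = (TensorProduct.lid R M).toLinearMap ∘ₗ J.subtype.rTensor M := TensorProduct.ext' fun a m => by
      simp [μ]
    rw [h2]
    exact (TensorProduct.lid R M).injective.comp h1
  have h0 : g.lTensor J z = 0 := hinj (by rw [hnat z, h, map_zero])
  obtain ⟨w, rfl⟩ := (lTensor_exact J (f := (LinearMap.ker g).subtype) (g := g)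
    (LinearMap.exact_subtype_ker_map g) hg z).1 h0
  clear h hnat h0 hx
  induction w using TensorProduct.induction_on with
  | zero => simp
  | tmul a p => simpa [μ] using Submodule.smul_mem_smul a.2 p.2
  | add a b ha hb => rw [map_add, map_add]; exact add_mem ha hb

theorem map_smul_top_of_surjective (J : Ideal R) (g : P →ₗ[R] M) (hg : Function.Surjective g) :
    (J • (⊤ : Submodule R P)).map g = J • ⊤ := by
  rw [Submodule.map_smul'', Submodule.map_top, LinearMap.range_eq_top.2 hg]

variable (I : Ideal R)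

/-- For flat `M` with `M/IM` projective over `R/I`, the reduction of a free cover modulo `I^n` splits. -/
theorem exists_section [Module.Flat R M] [Module.Projective (R ⧸ I) (M ⧸ (I • ⊤ : Submodule R M))]
    (n : ℕ) : ∃ s : M →ₗ[R] (M →₀ R) ⧸ (I ^ (n + 1) • ⊤ : Submodule R (M →₀ R)),
      ∀ m z, Submodule.Quotient.mk z = s m →
        Finsupp.linearCombination R (id : M → M) z - m ∈ I ^ (n + 1) • (⊤ : Submodule R M) := by
  classical
  let F := M →₀ R
  let π : F →ₗ[R] M := Finsupp.linearCombination R (id : M → M)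
  have hπ : Function.Surjective π := fun m => ⟨Finsupp.single m 1, by
    show Finsupp.linearCombination R (id : M → M) _ = m
    rw [Finsupp.linearCombination_single, one_smul]; rfl⟩
  let mk : ∀ j : ℕ, F →ₗ[R] F ⧸ (I ^ j • ⊤ : Submodule R F) := fun j => (I ^ j • ⊤ : Submodule R F).mkQ
  let π1 : (F ⧸ (I • ⊤ : Submodule R F)) →ₗ[R] (M ⧸ (I • ⊤ : Submodule R M)) :=
    Submodule.mapQ _ _ π (Submodule.map_le_iff_le_comap.1 (map_smul_top_of_surjective I π hπ).le)
  let π1' : (F ⧸ (I • ⊤ : Submodule R F)) →ₗ[R ⧸ I] (M ⧸ (I • ⊤ : Submodule R M)) :=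
    { toFun := π1
      map_add' := π1.map_add
      map_smul' := fun r x => by
        obtain ⟨r, rfl⟩ := Ideal.Quotient.mk_surjective r
        exact π1.map_smul r x }
  have hπ1 : Function.Surjective π1' := fun m => by
    obtain ⟨m, rfl⟩ := Submodule.Quotient.mk_surjective _ m
    obtain ⟨z, rfl⟩ := hπ m
    exact ⟨Submodule.Quotient.mk z, rfl⟩
  obtain ⟨σ, hσ⟩ := Module.projective_lifting_property π1' LinearMap.id hπ1
  let e : (F ⧸ (I • ⊤ : Submodule R F)) →ₗ[R] (F ⧸ (I • ⊤ : Submodule R F)) := (σ.comp π1').restrictScalars R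
  have hee : ∀ z, e (e z) = e z := fun z => congrArg σ (LinearMap.congr_fun hσ (π1' z))
  obtain ⟨u, hu⟩ := Module.projective_lifting_property (I • ⊤ : Submodule R F).mkQ
    (e ∘ₗ (I • ⊤ : Submodule R F).mkQ) (Submodule.mkQ_surjective _)
  have hu' : ∀ z, Submodule.Quotient.mk (p := (I • ⊤ : Submodule R F)) (u z) = e (Submodule.Quotient.mk z) :=
    LinearMap.congr_fun hu
  let v : Module.End R F := u - u ^ 2
  have hv : LinearMap.range v ≤ I • ⊤ := by
    rintro _ ⟨x, rfl⟩
    rw [← Submodule.Quotient.mk_eq_zero]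
    show Submodule.Quotient.mk (u x - (u ^ 2) x) = 0
    rw [pow_two, Module.End.mul_apply, Submodule.Quotient.mk_sub, hu', hu', hu', hee, sub_self]
  have hvn : ∀ j : ℕ, LinearMap.range (v ^ j) ≤ I ^ j • ⊤ := fun j => by
    induction j with
    | zero => rw [pow_zero, pow_zero, Ideal.one_eq_top, Submodule.top_smul]; exact le_top
    | succ j ih =>
      rw [pow_succ, pow_succ, Submodule.mul_smul]
      show LinearMap.range ((v ^ j) ∘ₗ v) ≤ _
      rw [LinearMap.range_comp]
      refine (Submodule.map_mono hv).trans ?_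
      rw [Submodule.map_smul'', Submodule.map_top]
      refine (Submodule.smul_mono le_rfl ih).trans ?_
      rw [← Submodule.mul_smul, ← Submodule.mul_smul, mul_comm]
  let E : Module.End R F := 1 - (1 - u ^ (n + 1)) ^ (n + 1)
  -- modulo `I`, `E` is `e`
  have hupow : ∀ (j : ℕ) z, Submodule.Quotient.mk (p := (I • ⊤ : Submodule R F)) ((u ^ (j + 1)) z)
      = e (Submodule.Quotient.mk z) := fun j => by
    induction j with
    | zero => simpa using hu'
    | succ j ih =>
      intro z
      rw [pow_succ', Module.End.mul_apply, hu', ih, hee]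
  have hwpow : ∀ (j : ℕ) z, Submodule.Quotient.mk (p := (I • ⊤ : Submodule R F)) (((1 - u ^ (n + 1)) ^ (j + 1)) z)
      = Submodule.Quotient.mk z - e (Submodule.Quotient.mk z) := fun j => by
    induction j with
    | zero =>
      intro z
      rw [zero_add, pow_one, LinearMap.sub_apply, Module.End.one_apply, Submodule.Quotient.mk_sub, hupow]
    | succ j ih =>
      intro z
      rw [pow_succ', Module.End.mul_apply, LinearMap.sub_apply, Module.End.one_apply, Submodule.Quotient.mk_sub,
        hupow, ih, map_sub, hee, sub_self, sub_zero]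
  have hE1 : ∀ z, Submodule.Quotient.mk (p := (I • ⊤ : Submodule R F)) (E z) = e (Submodule.Quotient.mk z) :=
    fun z => by rw [LinearMap.sub_apply, Module.End.one_apply, Submodule.Quotient.mk_sub, hwpow, sub_sub_cancel]
  -- modulo `I^(n+1)`, `E` is idempotent
  let N : Submodule R F := I ^ (n + 1) • ⊤
  have hmapN : ∀ w : Module.End R F, N ≤ N.comap w := fun w => Submodule.map_le_iff_le_comap.1 (by
    rw [Submodule.map_smul'']; exact Submodule.smul_mono le_rfl le_top)
  let ub : Module.End R (F ⧸ N) := N.mapQ N u (hmapN u)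
  have hub : ∀ (j : ℕ) z, (ub ^ j) (Submodule.Quotient.mk z) = Submodule.Quotient.mk ((u ^ j) z) := fun j => by
    induction j with
    | zero => intro z; rfl
    | succ j ih =>
      intro z
      rw [pow_succ', pow_succ', Module.End.mul_apply, Module.End.mul_apply, ih]
      rfl
  have hub0 : (ub - ub ^ 2) ^ (n + 1) = 0 := by
    refine Submodule.linearMap_qext _ (LinearMap.ext fun z => ?_)
    have h1 : ∀ (j : ℕ) w, ((ub - ub ^ 2) ^ j) (Submodule.Quotient.mk w) = Submodule.Quotient.mk ((v ^ j) w) := fun j => by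
      induction j with
      | zero => intro w; rfl
      | succ j ih =>
        intro w
        rw [pow_succ' _ j, pow_succ' _ j, Module.End.mul_apply, Module.End.mul_apply, ih, LinearMap.sub_apply, hub 2]
        rfl
    show ((ub - ub ^ 2) ^ (n + 1)) (Submodule.Quotient.mk z) = 0
    rw [h1, Submodule.Quotient.mk_eq_zero]
    exact hvn (n + 1) ⟨z, rfl⟩
  let eb : Module.End R (F ⧸ N) := 1 - (1 - ub ^ (n + 1)) ^ (n + 1)
  have heb : IsIdempotentElem eb := isIdempotentElem_one_sub_one_sub_pow_pow ub (n + 1) hub0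
  have hebE : ∀ z, eb (Submodule.Quotient.mk z) = Submodule.Quotient.mk (E z) := fun z => by
    have h1 : ∀ (j : ℕ) w, ((1 - ub ^ (n + 1)) ^ j) (Submodule.Quotient.mk w) =
        Submodule.Quotient.mk (((1 - u ^ (n + 1)) ^ j) w) := fun j => by
      induction j with
      | zero => intro w; rfl
      | succ j ih =>
        intro w
        rw [pow_succ' _ j, pow_succ' _ j, Module.End.mul_apply, Module.End.mul_apply, ih, LinearMap.sub_apply, hub]
        rfl
    rw [LinearMap.sub_apply, Module.End.one_apply, h1]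
    rfl
  let Q : Submodule R M := I ^ (n + 1) • ⊤
  let πN : (F ⧸ N) →ₗ[R] (M ⧸ Q) :=
    Submodule.mapQ _ _ π (Submodule.map_le_iff_le_comap.1 (map_smul_top_of_surjective _ π hπ).le)
  let φ : LinearMap.range eb →ₗ[R] (M ⧸ Q) := πN ∘ₗ (LinearMap.range eb).subtype
  have hsurj : Function.Surjective φ := by
    have key : ∀ j, (⊤ : Submodule R (M ⧸ Q)) ≤ LinearMap.range φ ⊔ I ^ j • ⊤ := fun j => by
      induction j with
      | zero => rw [pow_zero, Ideal.one_eq_top, Submodule.top_smul]; exact le_sup_right
      | succ j ih =>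
        refine ih.trans (sup_le le_sup_left ?_)
        have h1 : (⊤ : Submodule R (M ⧸ Q)) ≤ LinearMap.range φ ⊔ I • ⊤ := by
          intro y _
          obtain ⟨m, rfl⟩ := Submodule.Quotient.mk_surjective _ y
          obtain ⟨z, rfl⟩ := hπ m
          refine Submodule.mem_sup.2 ⟨φ ⟨eb (Submodule.Quotient.mk z), ⟨_, rfl⟩⟩, ⟨_, rfl⟩,
            Submodule.Quotient.mk (π z) - φ ⟨eb (Submodule.Quotient.mk z), ⟨_, rfl⟩⟩, ?_, add_sub_cancel _ _⟩
          show Submodule.Quotient.mk (π z) - πN (eb (Submodule.Quotient.mk z)) ∈ _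
          rw [hebE]
          show Submodule.Quotient.mk (π z) - Submodule.Quotient.mk (π (E z)) ∈ _
          rw [← Submodule.Quotient.mk_sub, ← map_sub π, ← Submodule.mkQ_apply,
            ← map_smul_top_of_surjective I (Q.mkQ) (Submodule.mkQ_surjective Q)]
          refine Submodule.mem_map_of_mem ?_
          rw [← Submodule.Quotient.mk_eq_zero, map_sub, Submodule.Quotient.mk_sub, sub_eq_zero]
          show π1 (Submodule.Quotient.mk z) = π1 (Submodule.Quotient.mk (E z))
          rw [hE1]
          exact (LinearMap.congr_fun hσ (π1' (Submodule.Quotient.mk z))).symm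
        refine (Submodule.smul_mono le_rfl h1).trans ?_
        rw [Submodule.smul_sup, ← Submodule.mul_smul, ← pow_succ]
        exact sup_le_sup_right Submodule.smul_le_right _
    refine LinearMap.range_eq_top.1 (top_le_iff.1 ((key (n + 1)).trans (sup_le le_rfl ?_)))
    rw [← map_smul_top_of_surjective _ Q.mkQ (Submodule.mkQ_surjective Q), Submodule.map_le_iff_le_comap]
    intro x hx
    rw [Submodule.mem_comap, Submodule.mkQ_apply, (Submodule.Quotient.mk_eq_zero Q).2 hx]
    exact zero_mem _
  have hinj : Function.Injective φ := by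
    rw [injective_iff_map_eq_zero]
    rintro ⟨y, w, rfl⟩ hy
    obtain ⟨z, hz⟩ := Submodule.Quotient.mk_surjective _ (eb w)
    have h1 : π z ∈ Q := by
      rw [← Submodule.Quotient.mk_eq_zero]
      show πN (Submodule.Quotient.mk z) = 0
      rw [hz]; exact hy
    obtain ⟨b, hb, hbz⟩ := (map_smul_top_of_surjective (I ^ (n + 1)) π hπ).ge h1
    have hk : π (z - b) = 0 := by rw [map_sub, hbz, sub_self]
    have hfix : (E (z - b)) - (z - b) ∈ N := by
      rw [← Submodule.Quotient.mk_eq_zero, Submodule.Quotient.mk_sub, ← hebE, Submodule.Quotient.mk_sub,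
        (Submodule.Quotient.mk_eq_zero N).2 hb, sub_zero, hz, sub_eq_zero, ← Module.End.mul_apply, heb.eq]
    have hEker : ∀ k, π k = 0 → E k ∈ I • (⊤ : Submodule R F) := fun k hk => by
      rw [← Submodule.Quotient.mk_eq_zero, hE1]
      show σ (π1' (Submodule.Quotient.mk k)) = 0
      rw [show π1' (Submodule.Quotient.mk k) = 0 from by
        show Submodule.Quotient.mk (π k) = 0
        rw [hk, Submodule.Quotient.mk_zero], map_zero]
    have hmem : ∀ j, j ≤ n + 1 → z - b ∈ I ^ j • (⊤ : Submodule R F) := fun j => by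
      induction j with
      | zero => intro _; rw [pow_zero, Ideal.one_eq_top, Submodule.top_smul]; trivial
      | succ j ih =>
        intro hj
        have h2 := mem_smul_ker_of_flat (I ^ j) π hπ (ih (by omega)) hk
        have h3 : E (z - b) ∈ I ^ (j + 1) • (⊤ : Submodule R F) := by
          have h4 := Submodule.mem_map_of_mem (f := E) h2
          rw [Submodule.map_smul''] at h4
          rw [pow_succ, Submodule.mul_smul]
          refine Submodule.smul_mono le_rfl ?_ h4
          rintro _ ⟨k, hk', rfl⟩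
          exact hEker k hk'
        have h5 := sub_mem h3 (Submodule.smul_mono (Ideal.pow_le_pow_right hj) le_rfl hfix)
        rwa [sub_sub_cancel] at h5
    refine Subtype.ext ?_
    show eb w = 0
    rw [← hz, Submodule.Quotient.mk_eq_zero]
    simpa using add_mem (hmem (n + 1) le_rfl) hb
  refine ⟨(LinearMap.range eb).subtype ∘ₗ (LinearEquiv.ofBijective φ ⟨hinj, hsurj⟩).symm.toLinearMap ∘ₗ Q.mkQ,
    fun m z hz => ?_⟩
  rw [← Submodule.Quotient.mk_eq_zero, Submodule.Quotient.mk_sub, sub_eq_zero]
  show πN (Submodule.Quotient.mk z) = _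
  rw [hz]
  exact (LinearEquiv.ofBijective φ ⟨hinj, hsurj⟩).apply_symm_apply (Q.mkQ m)

end GrothLib.ComplSplit
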